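import Groth.Agent.DCohMore.TensorRelPerf
import Groth.Agent.DCohMore.PCTensorPush
import Groth.Agent.DCohMore.RHomCoh
import Groth.Agent.DCohMore.ApproxGlobal
import Groth.Agent.DCohMore.RelPerfTerms
import Groth.Agent.DCohMore.GoodCor
import Groth.Agent.RelPCLib.FlatBC
import Groth.Agent.TildeOpenLib.Basic

/-! Derived tensor products of pseudo-coherent objects. -/

set_option autoImplicit false
set_option backward.isDefEq.respectTransparency false
set_option linter.style.haveILetI false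

universe u

open CategoryTheory Limits AlgebraicGeometry Pretriangulated
open Groth.Agent.DRingLib Groth.Agent.DCohLib Groth.Agent.DCohMore Groth.Agent.DerSchH7
attribute [local instance] HasDerivedCategory.standard

noncomputable section

namespace Groth.Agent.TensorCohLib

variable {X : Scheme.{u}}

/-- Tensor products of pseudo-coherent objects over an affine scheme are pseudo-coherent. -/
theorem pc_lTensor_affine [IsAffine X] (F : CochainComplex X.Modules ℤ) [DCoh.HasLTensorCx F]
    (hF : ∀ m : ℤ, DCoh.IsPseudoCoherentD m (DCoh.toD X F)) (E : DCoh.D X)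
    (hE : ∀ m : ℤ, DCoh.IsPseudoCoherentD m E) (m : ℤ) :
    DCoh.IsPseudoCoherentD m ((DCoh.LTensorCx F).obj E) := by
  obtain ⟨n, hn⟩ := TildePerf.exists_aboveZero_of_pc (hF 0)
  haveI : (DCoh.toD X F).IsLE (n - 1) := (DerivedCategory.isLE_iff _ _).2 fun i hi => hn i (by omega)
  obtain ⟨r, hr⟩ := appr_main (X := X) Set.univ isClosed_univ (by rw [Set.compl_univ]; exact isCompact_empty)
  obtain ⟨P, α, hP, -, C, p, d, hT, hC⟩ :=
    hr (m - n) E (isQCohD_of_pc hE) (hE _) fun i _ x _ => Set.mem_univ x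
  haveI : C.IsLE (m - n - 1) := (DerivedCategory.isLE_iff _ _).2 fun i hi => hC i (by omega)
  haveI hLC := isLE_lTensorCx F (n - 1) C (m - n - 1)
  obtain ⟨T', hT', ⟨e₁⟩, ⟨e₂⟩, ⟨e₃⟩⟩ := exists_lTensorCx_triangle F _ hT
  refine isPseudoCoherentD_iso e₁ ?_
  have h₂ : DCoh.IsPseudoCoherentD m T'.obj₂ := isPseudoCoherentD_iso e₂.symm
    (isPseudoCoherentD_of_aboveZero fun i hi => (DerivedCategory.isLE_iff _ _).1 hLC i (by omega))
  have hperf : ∀ W : DCoh.D X, DCoh.IsPerfect W → ∀ l, DCoh.IsPseudoCoherentD l ((DCoh.LTensorCx F).obj W) := by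
    intro W hW l
    let A := DerivedCategory.Q.objPreimage W
    let eA : DerivedCategory.Q.obj ((resX X).obj A) ≅ W :=
      haveI : QuasiIso ((resXπ X).app A) := quasiIso_resXπ A
      asIso (DerivedCategory.Q.map ((resXπ X).app A)) ≪≫ DerivedCategory.Q.objObjPreimageIso W
    refine isPseudoCoherentD_iso ((lTensorQ' F ((resX X).obj A)).symm ≪≫ (DCoh.LTensorCx F).mapIso eA) ?_
    refine isPseudoCoherentD_tensorCx (isKFlat_resX A) (isPerfect_iso eA.symm hW) (fun j => ?_) l
    haveI : QuasiIso ((resXπ X).app F) := quasiIso_resXπ F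
    exact isPseudoCoherentD_iso (asIso (DerivedCategory.Q.map ((resXπ X).app F))).symm (hF j)
  have h₃ : DCoh.IsPseudoCoherentD (m - 1) T'.obj₃ :=
    isPseudoCoherentD_iso e₃.symm (hperf _ (isPerfect_shift hP 1) _)
  have := isPseudoCoherentD_obj₁ _ hT' (m := m - 1) (by rwa [sub_add_cancel]) h₃
  rwa [sub_add_cancel] at this

/-- Restriction of a derived tensor product to an open subscheme. -/
theorem nonempty_restrict_lTensor {U : Scheme.{u}} (j : U ⟶ X) [IsOpenImmersion j]
    (F : CochainComplex X.Modules ℤ) [DCoh.HasLTensorCx F] (A : CochainComplex X.Modules ℤ) :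
    Nonempty ((DCoh.restrictD j).obj ((DCoh.LTensorCx F).obj (DerivedCategory.Q.obj A)) ≅
      (DCoh.LTensorCx ((resCx j).obj ((resX X).obj F))).obj (DerivedCategory.Q.obj ((resCx j).obj A))) := by
  let N := (resX X).obj F
  have hN : DCoh.IsKFlat ((resCx j).obj N) := (isKFlat_resCx_resX j F).1
  refine ⟨(DCoh.restrictD j).mapIso (lTensorQ' F A) ≪≫ restrictDQ j _ ≪≫
    DerivedCategory.Q.mapIso ((restrictTensorNat j N).app A) ≪≫ ?_⟩
  exact ((lTensorCxIsoQ ((resCx j).obj N) ((resCx j).obj N) (𝟙 _) inferInstance hN).app ((resCx j).obj A)).symm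

/-- Tensor products of pseudo-coherent objects are pseudo-coherent. -/
theorem pc_lTensor (F : CochainComplex X.Modules ℤ) [DCoh.HasLTensorCx F]
    (hF : ∀ m : ℤ, DCoh.IsPseudoCoherentD m (DCoh.toD X F)) (E : DCoh.D X)
    (hE : ∀ m : ℤ, DCoh.IsPseudoCoherentD m E) (m : ℤ) :
    DCoh.IsPseudoCoherentD m ((DCoh.LTensorCx F).obj E) := by
  refine isPseudoCoherentD_of_local fun x => ?_
  obtain ⟨_, ⟨V : X.Opens, hV, rfl⟩, hx, -⟩ :=
    X.isBasis_affineOpens.exists_subset_of_mem_open (a := x) (Set.mem_univ x) isOpen_univ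
  haveI : IsAffine (V : Scheme.{u}) := hV
  refine ⟨V, V.ι, inferInstance, ⟨x, hx⟩, rfl, ?_⟩
  let A := DerivedCategory.Q.objPreimage E
  let eA := DerivedCategory.Q.objObjPreimageIso E
  obtain ⟨e⟩ := nonempty_restrict_lTensor V.ι F A
  refine isPseudoCoherentD_iso (e.symm ≪≫ (DCoh.restrictD V.ι).mapIso ((DCoh.LTensorCx F).mapIso eA)) ?_
  refine pc_lTensor_affine _ (fun l => ?_) _ (fun l => ?_) m
  · haveI : QuasiIso ((resXπ X).app F) := quasiIso_resXπ F
    exact isPseudoCoherentD_iso (restrictDQ V.ι _)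
      (isPseudoCoherentD_restrict V.ι (isPseudoCoherentD_iso (asIso (DerivedCategory.Q.map ((resXπ X).app F))).symm (hF l)))
  · exact isPseudoCoherentD_iso (restrictDQ V.ι _) (isPseudoCoherentD_restrict V.ι (isPseudoCoherentD_iso eA.symm (hE l)))

/-- Pseudo-coherent objects on locally noetherian schemes have coherent cohomology. -/
theorem isCohD_of_pc [IsLocallyNoetherian X] (E : DCoh.D X) (hE : ∀ m : ℤ, DCoh.IsPseudoCoherentD m E) :
    DCoh.IsCohD E := fun i => isCoh_of_local fun x => by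
  obtain ⟨_, ⟨V : X.Opens, hV, rfl⟩, hx, -⟩ :=
    X.isBasis_affineOpens.exists_subset_of_mem_open (a := x) (Set.mem_univ x) isOpen_univ
  haveI : IsAffine (V : Scheme.{u}) := hV
  haveI : IsNoetherian (V : Scheme.{u}) := {}
  have h : ∀ m : ℤ, DCoh.IsPseudoCoherentD m ((DCoh.restrictD V.ι).obj E) := fun m =>
    isPseudoCoherentD_restrict V.ι (hE m)
  exact ⟨V, hx, isCoh_iso (restrictHDIso V.ι E i)
    (((TildePerf.pc_iff_noetherian _ (isQCohD_of_pc h) i).1 (h i)).1 i le_rfl)⟩

/-- Inverse images along flat morphisms keep coherent cohomology. -/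
theorem isCohD_pullCx {Y : Scheme.{u}} (g : X ⟶ Y) [Flat g] (Q : CochainComplex Y.Modules ℤ)
    (hQ : DCoh.IsCohD (DCoh.toD Y Q)) :
    DCoh.IsCohD (DCoh.toD X (((Scheme.Modules.pullback g).mapHomologicalComplex (ComplexShape.up ℤ)).obj Q)) := fun i => by
  have e : (((Scheme.Modules.pullback g).mapHomologicalComplex (ComplexShape.up ℤ)).obj Q).homology i ≅
      (Scheme.Modules.pullback g).obj (Q.homology i) := (Q.sc i).mapHomologyIso (Scheme.Modules.pullback g)
  exact TildeOpenLib.isCoh_of_iso' ((DerivedCategory.homologyFunctorFactors X.Modules i).app _ ≪≫ e).symm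
    (PullbackMod.isCoh_pullback g _ (TildeOpenLib.isCoh_of_iso'
      ((DerivedCategory.homologyFunctorFactors Y.Modules i).app Q) (hQ i)))

end Groth.Agent.TensorCohLib
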